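import Groth.Prelude.Def_LambdaRing
import Mathlib.Algebra.Polynomial.Coeff
import Mathlib.RingTheory.PowerSeries.Inverse

/-!
Basic facts on pre-λ-rings (`LambdaRing.LambdaOps`) used by helper13's proofs:
additivity of `lamSeries`, `λ_t(0) = 1`, and, when `λ^k(1) = 0` for `k ≥ 2`,
`λ_t(1) = 1 + t`, `λ^m(N) = C(N, m)` and `λ^m(-1) = (-1)^m`.
-/

namespace Groth.Agent.Lib.Helper13.Lambda

open LambdaRing Finset

universe u

variable {K : Type u} [CommRing K] [LambdaRing.LambdaOps K]

theorem lamSeries_add (x y : K) :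
    LambdaRing.lamSeries (x + y) = LambdaRing.lamSeries x * LambdaRing.lamSeries y := by
  ext k
  rw [PowerSeries.coeff_mul, LambdaRing.lamSeries, PowerSeries.coeff_mk,
    LambdaRing.LambdaOps.lam_add, Finset.Nat.sum_antidiagonal_eq_sum_range_succ_mk]
  simp [LambdaRing.lamSeries, PowerSeries.coeff_mk]

theorem constantCoeff_lamSeries (x : K) :
    PowerSeries.constantCoeff (LambdaRing.lamSeries x) = 1 := by
  rw [← PowerSeries.coeff_zero_eq_constantCoeff_apply, LambdaRing.lamSeries, PowerSeries.coeff_mk,
    LambdaRing.LambdaOps.lam_zero]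

theorem isUnit_lamSeries (x : K) : IsUnit (LambdaRing.lamSeries x) := by
  rw [PowerSeries.isUnit_iff_constantCoeff, constantCoeff_lamSeries]
  exact isUnit_one

theorem lamSeries_zero : LambdaRing.lamSeries (0 : K) = 1 := by
  have h := lamSeries_add (0 : K) 0
  rw [add_zero] at h
  have hu := isUnit_lamSeries (0 : K)
  exact (hu.mul_left_cancel (h.symm.trans (mul_one _).symm))

theorem lam_zero_of_pos (m : ℕ) (hm : 1 ≤ m) : LambdaRing.LambdaOps.lam m (0 : K) = 0 := by
  have := congrArg (PowerSeries.coeff m) (lamSeries_zero (K := K))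
  rw [LambdaRing.lamSeries, PowerSeries.coeff_mk, PowerSeries.coeff_one] at this
  rw [this, if_neg (by omega)]

omit [LambdaRing.LambdaOps K] in
/-- if `(1 + X) * g = 1` then `coeff n g = (-1)^n` -/
theorem coeff_of_one_add_X_mul {g : PowerSeries K} (hmul : (1 + PowerSeries.X) * g = 1) (n : ℕ) :
    PowerSeries.coeff n g = (-1 : K) ^ n := by
  induction n with
  | zero =>
    have := congrArg (PowerSeries.coeff 0) hmul
    simpa [add_mul, PowerSeries.coeff_zero_eq_constantCoeff] using this
  | succ n ih =>
    have := congrArg (PowerSeries.coeff (n + 1)) hmul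
    rw [add_mul, one_mul, map_add, PowerSeries.coeff_succ_X_mul, ih, PowerSeries.coeff_one] at this
    simp only [Nat.add_one_ne_zero, if_false] at this
    rw [pow_succ]
    linear_combination this

section One

variable (h1 : ∀ k : ℕ, 2 ≤ k → LambdaRing.LambdaOps.lam k (1 : K) = 0)
include h1

theorem lamSeries_one : LambdaRing.lamSeries (1 : K) = 1 + PowerSeries.X := by
  ext n
  rw [LambdaRing.lamSeries, PowerSeries.coeff_mk, map_add, PowerSeries.coeff_one,
    PowerSeries.coeff_X]
  rcases n with _ | _ | n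
  · simp [LambdaRing.LambdaOps.lam_zero]
  · simp [LambdaRing.LambdaOps.lam_one]
  · rw [h1 (n + 2) (by omega)]
    simp

theorem lamSeries_natCast (N : ℕ) :
    LambdaRing.lamSeries (N : K) = (1 + PowerSeries.X) ^ N := by
  induction N with
  | zero => simp [lamSeries_zero]
  | succ N ih => rw [Nat.cast_succ, lamSeries_add, ih, lamSeries_one h1, pow_succ]

theorem lam_natCast (N m : ℕ) : LambdaRing.LambdaOps.lam m (N : K) = (N.choose m : K) := by
  have := congrArg (PowerSeries.coeff m) (lamSeries_natCast h1 (K := K) N)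
  rw [LambdaRing.lamSeries, PowerSeries.coeff_mk] at this
  rw [this]
  have e : ((1 + PowerSeries.X : PowerSeries K)) ^ N =
      (((1 + Polynomial.X : Polynomial K) ^ N : Polynomial K) : PowerSeries K) := by
    simp [Polynomial.coe_pow, Polynomial.coe_add, Polynomial.coe_one, Polynomial.coe_X]
  rw [e, Polynomial.coeff_coe, Polynomial.coeff_one_add_X_pow]

theorem lam_neg_one (m : ℕ) : LambdaRing.LambdaOps.lam m (-1 : K) = (-1 : K) ^ m := by
  have hmul : (1 + PowerSeries.X) * LambdaRing.lamSeries (-1 : K) = 1 := by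
    rw [← lamSeries_one h1, ← lamSeries_add, add_neg_cancel, lamSeries_zero]
  have := coeff_of_one_add_X_mul hmul m
  rwa [LambdaRing.lamSeries, PowerSeries.coeff_mk] at this

end One

end Groth.Agent.Lib.Helper13.Lambda
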