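import Groth.Prelude.Def_LambdaSp
import Groth.Agent.Lib.Helper13.Lambda

/-!
Facts on the Adams operations `LambdaRing.adamsOp` of a pre-λ-ring (helper13):
the Newton identity `d/dt λ_t(x) = logDerivSeries x * λ_t(x)`, the coefficients of
`logDerivSeries`, and compatibility with ring maps commuting with the λ^i.
-/

namespace Groth.Agent.Lib.Helper13.Adams

open LambdaRing

universe u v

variable {K : Type u} [CommRing K] [LambdaRing.LambdaOps K]

theorem newton (x : K) :
    PowerSeries.derivative K (LambdaRing.lamSeries x) =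
      LambdaRing.logDerivSeries x * LambdaRing.lamSeries x := by
  rw [LambdaRing.logDerivSeries, mul_assoc, PowerSeries.invOfUnit_mul, mul_one]
  rw [Groth.Agent.Lib.Helper13.Lambda.constantCoeff_lamSeries, Units.val_one]

theorem coeff_logDeriv (x : K) (i : ℕ) :
    PowerSeries.coeff i (LambdaRing.logDerivSeries x) = (-1 : K) ^ i * LambdaRing.adamsOp (i + 1) x := by
  show _ = (-1 : K) ^ i * ((-1) ^ i * PowerSeries.coeff i (LambdaRing.logDerivSeries x))
  rw [← mul_assoc, ← mul_pow]
  simp

omit [LambdaRing.LambdaOps K] in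
theorem map_derivative {K' : Type v} [CommRing K'] (f : K →+* K') (φ : PowerSeries K) :
    PowerSeries.map f (PowerSeries.derivative K φ) = PowerSeries.derivative K' (PowerSeries.map f φ) := by
  ext n
  simp [PowerSeries.coeff_map, PowerSeries.coeff_derivative]

/-- Newton's identity in coefficients: `(n+1) λ^{n+1}(x) = Σ_{i+j=n} (-1)^i ψ^{i+1}(x) λ^j(x)`. -/
theorem newton_coeff (x : K) (n : ℕ) :
    LambdaRing.LambdaOps.lam (n + 1) x * (n + 1) =
      ∑ p ∈ Finset.antidiagonal n,
        (-1 : K) ^ p.1 * LambdaRing.adamsOp (p.1 + 1) x * LambdaRing.LambdaOps.lam p.2 x := by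
  have := congrArg (PowerSeries.coeff n) (newton x)
  rw [PowerSeries.coeff_derivative, PowerSeries.coeff_mul] at this
  simp only [LambdaRing.lamSeries, PowerSeries.coeff_mk, coeff_logDeriv] at this
  exact this

end Groth.Agent.Lib.Helper13.Adams
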